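import Mathlib

/-!
# Finite type lifts along surjections with finitely generated nilpotent kernel
-/

namespace Groth.Agent.Lib.Helper6.NilpFT

/-- If `ψ : B → D` is a surjective `A`-algebra map whose kernel is nilpotent and finitely
generated, and `D` is of finite type over `A`, then so is `B`. -/
theorem finiteType_of_surjective_of_nilpotent_ker {A B D : Type*} [CommRing A] [CommRing B]
    [CommRing D] [Algebra A B] [Algebra A D] (ψ : B →ₐ[A] D) (hψ : Function.Surjective ψ)
    (hJ : IsNilpotent (RingHom.ker ψ.toRingHom)) (hfg : (RingHom.ker ψ.toRingHom).FG)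
    [h : Algebra.FiniteType A D] : Algebra.FiniteType A B := by
  classical
  obtain ⟨s, hs⟩ := h.out
  obtain ⟨T, hT⟩ := hfg
  obtain ⟨n, hn⟩ := hJ
  set J : Ideal B := RingHom.ker ψ.toRingHom with hJdef
  let lift : D → B := Function.surjInv hψ
  have hlift : ∀ x, ψ (lift x) = x := Function.surjInv_eq hψ
  let t : Finset B := s.image lift ∪ T
  refine ⟨⟨t, ?_⟩⟩
  set C := Algebra.adjoin A (t : Set B) with hC
  have htC : ∀ x ∈ t, x ∈ C := fun x hx => Algebra.subset_adjoin hx
  let I : Ideal C := J.comap (algebraMap C B)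
  have hIJ : I.map (algebraMap C B) = J := by
    apply le_antisymm (Ideal.map_comap_le)
    have hsp : Ideal.span (T : Set B) ≤ I.map (algebraMap C B) := by
      rw [Ideal.span_le]
      intro x hx
      have hxC : x ∈ C := htC x (by simp [t, Finset.mem_coe.mp hx])
      have hxJ : x ∈ J := hT ▸ Ideal.subset_span hx
      have : (⟨x, hxC⟩ : C) ∈ I := hxJ
      exact Ideal.mem_map_of_mem (algebraMap C B) this
    exact le_of_eq_of_le hT.symm hsp
  let N : Submodule C B := LinearMap.range (Algebra.linearMap C B)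
  have hsmul : ∀ k : ℕ, (I ^ k • ⊤ : Submodule C B) = (J ^ k).restrictScalars C := by
    intro k
    rw [Ideal.smul_top_eq_map, Ideal.map_pow, hIJ]
  have base : (⊤ : Submodule C B) ≤ N ⊔ I • ⊤ := by
    intro b _
    have hb : ψ b ∈ (C.map ψ) := by
      have : Algebra.adjoin A (s : Set D) ≤ C.map ψ := by
        apply Algebra.adjoin_le
        intro x hx
        refine ⟨lift x, htC _ ?_, hlift x⟩
        simp only [t, Finset.mem_union, Finset.mem_image]
        exact Or.inl ⟨x, hx, rfl⟩
      apply this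
      rw [hs]; trivial
    obtain ⟨c, hc, hcb⟩ := hb
    have hbc : b - c ∈ J := by
      show ψ.toRingHom (b - c) = 0
      rw [map_sub]
      exact sub_eq_zero.mpr hcb.symm
    have h1 : (I • ⊤ : Submodule C B) = J.restrictScalars C := by
      have := hsmul 1
      rwa [pow_one, pow_one] at this
    have : b = c + (b - c) := by ring
    rw [this]
    apply Submodule.add_mem_sup
    · exact ⟨⟨c, hc⟩, rfl⟩
    · rw [h1]; exact hbc
  have step : ∀ k : ℕ, (⊤ : Submodule C B) ≤ N ⊔ I ^ k • ⊤ := by
    intro k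
    induction k with
    | zero =>
      rw [pow_zero, Ideal.one_eq_top, Submodule.top_smul]
      exact le_sup_right
    | succ k ih =>
      refine ih.trans (sup_le le_sup_left ?_)
      calc (I ^ k • ⊤ : Submodule C B) ≤ I ^ k • (N ⊔ I • ⊤) := Submodule.smul_mono le_rfl base
        _ = I ^ k • N ⊔ I ^ k • (I • ⊤) := Submodule.smul_sup _ _ _
        _ ≤ N ⊔ I ^ (k + 1) • ⊤ := by
          apply sup_le_sup Submodule.smul_le_right
          rw [← Submodule.mul_smul, ← pow_succ]
  have hfin := step n
  rw [hsmul n, hn, Ideal.zero_eq_bot] at hfin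
  have hbot : ((⊥ : Ideal B).restrictScalars C : Submodule C B) = ⊥ := by
    ext x; simp
  rw [hbot, sup_bot_eq] at hfin
  rw [eq_top_iff]
  intro b _
  obtain ⟨c, hc⟩ := hfin (Submodule.mem_top : b ∈ ⊤)
  rw [← hc]
  exact c.2

/-- `RingHom` version. -/
theorem _root_.RingHom.FiniteType.of_comp_surjective_of_nilpotent_ker {A B D : Type*} [CommRing A]
    [CommRing B] [CommRing D] (φ : A →+* B) (ψ : B →+* D) (hψ : Function.Surjective ψ)
    (hJ : IsNilpotent (RingHom.ker ψ)) (hfg : (RingHom.ker ψ).FG)
    (h : (ψ.comp φ).FiniteType) : φ.FiniteType := by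
  algebraize [φ, ψ.comp φ]
  let ψ' : B →ₐ[A] D := ⟨ψ, fun a => rfl⟩
  exact finiteType_of_surjective_of_nilpotent_ker ψ' hψ hJ hfg

end Groth.Agent.Lib.Helper6.NilpFT
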